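import Cfsg.Agent.Lib.FischerThm.Defs
import Cfsg.Agent.Lib.ThreeTranspositions.Blocks
import Cfsg.Agent.Lib.Spectrum.CoxeterSym

/-!
Copies of the symmetric group of degree five inside a closed set of 3-transpositions, and the lemma on
a member commuting with no transposition of a symmetric group of degree four.
-/

set_option autoImplicit false

open Cfsg

namespace Cfsg.Agent.Lib.FischerThm.B

open Cfsg.Agent.Lib.ThreeTranspositions Cfsg.Agent.Lib.Spectrum
open Cfsg.Agent.Lib.FischerMTypes.Primitive (perp)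

variable {G : Type*} [Group G] {D : Set G}

theorem perp_symm {x y : G} (hx : x ∈ D) (hy : y ∈ perp D x) : x ∈ perp D y :=
  ⟨hx, hy.2.1.symm, hy.2.2.symm⟩

theorem perp_conj (hC : IsClosedSet D) (g : G) {x y : G} (hy : y ∈ perp D x) :
    g * y * g⁻¹ ∈ perp D (g * x * g⁻¹) :=
  ⟨hC.2 g y hy.1, fun h => hy.2.1 (mul_left_cancel (mul_right_cancel h)),
    (Commute.conj_iff g).2 hy.2.2⟩

/-- A faithful copy of the symmetric group of degree five whose transpositions are members. -/
structure Frame (D : Set G) where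
  hom : Equiv.Perm (Fin 5) →* G
  inj : Function.Injective hom
  mem : ∀ i j : Fin 5, i ≠ j → hom (Equiv.swap i j) ∈ D

namespace Frame

variable (F : Frame D)

/-- A transposition of the copy. -/
def t (i j : Fin 5) : G := F.hom (Equiv.swap i j)

/-- Two edges are equal or disjoint. -/
def Apart (i j k l : Fin 5) : Prop :=
  (i = k ∧ j = l) ∨ (i = l ∧ j = k) ∨ (i ≠ k ∧ i ≠ l ∧ j ≠ k ∧ j ≠ l)

instance apartDecidable (i j k l : Fin 5) : Decidable (Apart i j k l) := by
  unfold Apart; infer_instance

theorem t_comm (i j : Fin 5) : F.t i j = F.t j i := by rw [t, Equiv.swap_comm]; rfl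

theorem swap_apart : ∀ i j k l : Fin 5, i ≠ j → k ≠ l →
    (Equiv.swap i j * Equiv.swap k l = Equiv.swap k l * Equiv.swap i j ↔ Apart i j k l) := by
  decide +kernel

theorem commute_iff {i j k l : Fin 5} (hij : i ≠ j) (hkl : k ≠ l) :
    Commute (F.t i j) (F.t k l) ↔ Apart i j k l := by
  rw [← swap_apart i j k l hij hkl]
  constructor
  · intro h
    exact F.inj (by rw [map_mul, map_mul]; exact h.eq)
  · intro h
    change F.hom _ * F.hom _ = F.hom _ * F.hom _
    rw [← map_mul, ← map_mul, h]

theorem t_ne {i j k l : Fin 5} (h : Equiv.swap i j ≠ Equiv.swap k l) : F.t i j ≠ F.t k l :=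
  fun e => h (F.inj e)

theorem mem_perp {i j k l : Fin 5} (hij : i ≠ j) (hkl : k ≠ l) (h1 : i ≠ k) (h2 : i ≠ l)
    (h3 : j ≠ k) (h4 : j ≠ l) : F.t k l ∈ perp D (F.t i j) := by
  refine ⟨F.mem k l hkl, fun e => ?_, (F.commute_iff hij hkl).2 (Or.inr (Or.inr ⟨h1, h2, h3, h4⟩))⟩
  have := congrArg (fun σ : Equiv.Perm (Fin 5) => σ i) (F.inj e)
  simp only [Equiv.swap_apply_left, Equiv.swap_apply_of_ne_of_ne h1 h2] at this
  exact hij this

theorem t_conj (σ : Equiv.Perm (Fin 5)) (i j : Fin 5) :
    F.hom σ * F.t i j * (F.hom σ)⁻¹ = F.t (σ i) (σ j) := by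
  rw [t, t, ← map_inv, ← map_mul, ← map_mul]
  congr 1
  ext x
  simp [Equiv.swap_apply_def, Equiv.Perm.inv_def, Equiv.symm_apply_eq]
  split_ifs <;> simp_all

theorem third_eq {i j k : Fin 5} (hij : i ≠ j) (hik : i ≠ k) (hjk : j ≠ k) :
    F.t i j * F.t j k * F.t i j = F.t i k := by
  have key : ∀ i j k : Fin 5, i ≠ j → i ≠ k → j ≠ k →
      Equiv.swap i j * Equiv.swap j k * Equiv.swap i j = Equiv.swap i k := by decide +kernel
  rw [t, t, t, ← map_mul, ← map_mul, key i j k hij hik hjk]

/-- Commuting with two edges at a vertex gives commuting with the third. -/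
theorem commute_triangle {x : G} {i j k : Fin 5} (hij : i ≠ j) (hik : i ≠ k) (hjk : j ≠ k)
    (h1 : Commute x (F.t i j)) (h2 : Commute x (F.t j k)) : Commute x (F.t i k) := by
  rw [← F.third_eq hij hik hjk]
  exact commute_third x h1 h2

/-- The same copy with permuted points. -/
def relabel (σ : Equiv.Perm (Fin 5)) : Frame D where
  hom := F.hom.comp (MulAut.conj σ).toMonoidHom
  inj := F.inj.comp (MulAut.conj σ).injective
  mem i j h := by
    have := F.mem (σ i) (σ j) (σ.injective.ne h)
    rw [show F.hom (Equiv.swap (σ i) (σ j)) = F.t (σ i) (σ j) from rfl, ← F.t_conj] at this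
    simpa [t] using this

theorem relabel_t (σ : Equiv.Perm (Fin 5)) (i j : Fin 5) :
    (F.relabel σ).t i j = F.t (σ i) (σ j) := by
  rw [← F.t_conj]
  simp [t, relabel]

end Frame

/-- A path of four members generates a frame. -/
theorem exists_frame (hC : IsClosedSet D) {d y b a : G} (hd : d ∈ D) (hy : y ∈ D) (hb : b ∈ D)
    (ha : a ∈ D) (hdb : Commute d b) (hda : Commute d a) (hya : Commute y a)
    (hdy : ¬ Commute d y) (hyb : ¬ Commute y b) (hba : ¬ Commute b a) :
    ∃ F : Frame D, F.t 0 1 = d ∧ F.t 1 2 = y ∧ F.t 2 3 = b ∧ F.t 3 4 = a := by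
  have hS := hC.1
  let s : ℕ → G := fun i => ![d, y, b, a] (Fin.ofNat 4 i)
  have s0 : s 0 = d := rfl
  have s1 : s 1 = y := rfl
  have s2 : s 2 = b := rfl
  have s3 : s 3 = a := rfl
  have hr : CoxeterSym.SymRel 4 s := by
    refine ⟨fun i hi => ?_, fun i hi => ?_, fun i j h hj => ?_⟩
    · interval_cases i
      exacts [mul_self hS hd, mul_self hS hy, mul_self hS hb, mul_self hS ha]
    · have : i < 3 := by omega
      interval_cases i
      exacts [braid hS hd hy hdy, braid hS hy hb hyb, braid hS hb ha hba]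
    · have : i < 2 := by omega
      interval_cases i <;> interval_cases j
      exacts [hdb.eq, hda.eq, hya.eq]
  obtain ⟨φ, hφ, -⟩ := CoxeterSym.exists_lift hr
  have e0 : φ (Equiv.swap 0 1) = d := hφ 0
  have e1 : φ (Equiv.swap 1 2) = y := hφ 1
  have e2 : φ (Equiv.swap 2 3) = b := hφ 2
  have e3 : φ (Equiv.swap 3 4) = a := hφ 3
  have hmem : ∀ i j : Fin 5, i ≠ j → φ (Equiv.swap i j) ∈ D := by
    intro i j h
    have key : ∀ i j : Fin 5, i ≠ j → ∃ σ : Equiv.Perm (Fin 5),
        σ * Equiv.swap 0 1 * σ⁻¹ = Equiv.swap i j := by decide +kernel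
    obtain ⟨σ, hσ⟩ := key i j h
    rw [← hσ, map_mul, map_mul, map_inv, e0]
    exact hC.2 _ d hd
  have hinj : Function.Injective φ := by
    have hadj : ∀ i j k : Fin 5, i ≠ j → i ≠ k → j ≠ k →
        φ (Equiv.swap i j) ≠ φ (Equiv.swap j k) := by
      intro i j k h1 h2 h3 e
      have key : ∀ i j k : Fin 5, i ≠ j → i ≠ k → j ≠ k → ∃ σ : Equiv.Perm (Fin 5),
          σ * Equiv.swap i j * σ⁻¹ = Equiv.swap 0 1 ∧ σ * Equiv.swap j k * σ⁻¹ = Equiv.swap 1 2 := by
        decide +kernel
      obtain ⟨σ, g1, g2⟩ := key i j k h1 h2 h3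
      apply ne_of_not_commute hdy
      rw [← e0, ← e1, ← g1, ← g2]
      simp only [map_mul, e]
    rw [← MonoidHom.ker_eq_bot_iff, Subgroup.eq_bot_iff_forall]
    intro x hx
    by_contra hne1
    have key : ∀ i j k l : Fin 5, i ≠ j → k ≠ l → Equiv.swap i j ≠ Equiv.swap k l →
        ∃ m n : Fin 5, (m ≠ n ∧ (m = i ∨ m = j) ∧ n ≠ i ∧ n ≠ j) ∧
          Equiv.swap m n * Equiv.swap k l = Equiv.swap k l * Equiv.swap m n := by decide +kernel
    have key2 : ∀ x : Equiv.Perm (Fin 5), x ≠ 1 → ∃ i j : Fin 5, i ≠ j ∧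
        Equiv.swap (x i) (x j) ≠ Equiv.swap i j := by decide +kernel
    obtain ⟨i, j, hij, hswap⟩ := key2 x hne1
    have he : φ (Equiv.swap (x i) (x j)) = φ (Equiv.swap i j) := by
      have : Equiv.swap (x i) (x j) = x * Equiv.swap i j * x⁻¹ :=
        Equiv.swap_apply_apply x i j
      rw [this, map_mul, map_mul, map_inv, MonoidHom.mem_ker.1 hx]
      group
    obtain ⟨m, n, ⟨hmn, hm, hni, hnj⟩, hc⟩ := key i j (x i) (x j) hij (x.injective.ne hij) hswap.symm
    have hc' : Commute (φ (Equiv.swap m n)) (φ (Equiv.swap i j)) := by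
      rw [← he]
      change _ = _
      rw [← map_mul, ← map_mul, hc]
    obtain ⟨r, hr1, hr2⟩ : ∃ r, r ≠ m ∧ Equiv.swap r m = Equiv.swap i j := by
      rcases hm with rfl | rfl
      · exact ⟨j, hij.symm, Equiv.swap_comm _ _⟩
      · exact ⟨i, hij, rfl⟩
    have hrn : r ≠ n := by
      rintro rfl
      rcases hm with rfl | rfl
      · have := congrArg (fun σ : Equiv.Perm (Fin 5) => σ r) hr2
        simp [Equiv.swap_apply_of_ne_of_ne hni hnj] at this
        exact hr1 this.symm
      · have := congrArg (fun σ : Equiv.Perm (Fin 5) => σ r) hr2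
        simp [Equiv.swap_apply_of_ne_of_ne hni hnj] at this
        exact hr1 this.symm
    apply hadj r m n hr1 hrn hmn
    have hb' := congrArg φ (show Equiv.swap r m * Equiv.swap m n * Equiv.swap r m =
        Equiv.swap m n * Equiv.swap r m * Equiv.swap m n from
      (by decide +kernel : ∀ r m n : Fin 5, r ≠ m → r ≠ n → m ≠ n →
        Equiv.swap r m * Equiv.swap m n * Equiv.swap r m =
          Equiv.swap m n * Equiv.swap r m * Equiv.swap m n) r m n hr1 hrn hmn)
    have hsq : ∀ u v : Fin 5, φ (Equiv.swap u v) * φ (Equiv.swap u v) = 1 := fun u v => by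
      rw [← map_mul, Equiv.swap_mul_self, map_one]
    rw [map_mul, map_mul, map_mul, map_mul, hr2, ← hc'.eq, mul_assoc, hsq, mul_one, hc'.eq,
      mul_assoc, hsq, mul_one] at hb'
    rw [hr2]
    exact hb'.symm
  exact ⟨⟨φ, hinj, hmem⟩, e0, e1, e2, e3⟩

/-- A member outside `S₄` commuting with none of its six transpositions gives three commuting members. -/
theorem exists_triangle (hC : IsClosedSet D) (F : Frame D) {x : G} (hx : x ∈ D) {m : Fin 5}
    (hnull : ∀ i j : Fin 5, i ≠ j → i ≠ m → j ≠ m → ¬ Commute x (F.t i j)) :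
    ∃ p ∈ D, ∃ q ∈ perp D p, ∃ r ∈ perp D p, r ∈ perp D q := by
  have hS := hC.1
  obtain ⟨σ, rfl⟩ : ∃ σ : Equiv.Perm (Fin 5), m = σ 4 := ⟨Equiv.swap m 4, by simp⟩
  set E := F.relabel σ with hE
  have hn : ∀ i j : Fin 5, i ≠ j → i ≠ 4 → j ≠ 4 → ¬ Commute x (E.t i j) := fun i j h h1 h2 => by
    rw [hE, F.relabel_t]
    exact hnull _ _ (σ.injective.ne h) (σ.injective.ne h1) (σ.injective.ne h2)
  clear_value E
  clear hE hnull
  set A := E.t 0 1 with hA
  set B := E.t 2 3 with hB
  set P := E.t 0 2 with hP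
  set Q := E.t 1 3 with hQ
  set U := E.t 1 2 with hU
  set V := E.t 0 3 with hV
  have sq : ∀ {u : G}, u ∈ D → ∀ z : G, u * (u * z) = z := fun hu z => mul_self_assoc hS hu z
  have hm : ∀ {i j : Fin 5}, i ≠ j → E.t i j ∈ D := fun h => E.mem _ _ h
  have hxx := mul_self hS hx
  have hAD : A ∈ D := E.mem 0 1 (by decide)
  have hBD : B ∈ D := E.mem 2 3 (by decide)
  have hPD : P ∈ D := E.mem 0 2 (by decide)
  have hUD : U ∈ D := E.mem 1 2 (by decide)
  have hVD : V ∈ D := E.mem 0 3 (by decide)
  have brd : ∀ {i j : Fin 5}, i ≠ j → i ≠ 4 → j ≠ 4 → E.t i j * x * E.t i j = x * E.t i j * x :=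
    fun h h1 h2 => (braid hS hx (hm h) (hn _ _ h h1 h2)).symm
  have bA : A * x * A = x * A * x := brd (i := 0) (j := 1) (by decide) (by decide) (by decide)
  have bB : B * x * B = x * B * x := brd (i := 2) (j := 3) (by decide) (by decide) (by decide)
  have bP : P * x * P = x * P * x := brd (i := 0) (j := 2) (by decide) (by decide) (by decide)
  have bQ : Q * x * Q = x * Q * x := brd (i := 1) (j := 3) (by decide) (by decide) (by decide)
  have bU : U * x * U = x * U * x := brd (i := 1) (j := 2) (by decide) (by decide) (by decide)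
  have bV : V * x * V = x * V * x := brd (i := 0) (j := 3) (by decide) (by decide) (by decide)
  set g := x * U * B * x with hg
  have hginv : g⁻¹ = x * B * U * x := by
    rw [hg, mul_inv_rev, mul_inv_rev, mul_inv_rev, inv_eq hS hx, inv_eq hS (hm (by decide)),
      inv_eq hS (hm (by decide))]
    simp only [mul_assoc]
    rfl
  have hBUB : B * U * B = Q := by
    rw [hB, hU, hQ, E.t_comm 2 3, E.t_comm 1 2, E.t_comm 1 3]
    exact E.third_eq (by decide) (by decide) (by decide)
  have hgB : g⁻¹ * B * g = Q := by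
    rw [hginv, hg]
    calc x * B * U * x * B * (x * U * B * x) = x * B * U * (x * B * x) * U * B * x := by
          simp only [mul_assoc]
      _ = x * (B * U * B) * x * (B * U * B) * x := by
          rw [← bB]; simp only [mul_assoc]
      _ = x * (Q * x * Q) * x := by rw [hBUB]; simp only [mul_assoc]
      _ = x * (x * Q * x) * x := by rw [bQ]
      _ = Q := by simp only [mul_assoc, sq hx, hxx, mul_one]
  set h := B * U * A with hh
  set z := h * x * h⁻¹ with hz
  have hgA : g⁻¹ * A * g = x * z * x := by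
    rw [hginv, hg, hz, hh, mul_inv_rev, mul_inv_rev, inv_eq hS hAD,
      inv_eq hS hUD, inv_eq hS hBD]
    calc x * B * U * x * A * (x * U * B * x) = x * B * U * (x * A * x) * U * B * x := by
          simp only [mul_assoc]
      _ = x * B * U * (A * x * A) * U * B * x := by
          rw [bA]
      _ = _ := by simp only [mul_assoc]
  -- the conjugating element
  set k := P * h with hk
  have hkperm : k = V * U := by
    have : Equiv.swap (0 : Fin 5) 2 * (Equiv.swap 2 3 * Equiv.swap 1 2 * Equiv.swap 0 1) =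
        Equiv.swap 0 3 * Equiv.swap 1 2 := by decide +kernel
    rw [hk, hh, hP, hB, hU, hA, hV]
    simp only [Frame.t, ← map_mul, this]
  have hVU : Commute V U := (E.commute_iff (by decide) (by decide)).2 (by decide)
  have hkx : Commute x (k * x * k⁻¹) := by
    rw [hkperm, mul_inv_rev, inv_eq hS hVD,
      inv_eq hS hUD]
    have h1 : Commute (x * V * x) (x * U * x) := by
      have := (Commute.conj_iff x).2 hVU
      rwa [inv_eq hS hx] at this
    rw [← bV, ← bU] at h1
    have h2 := (Commute.conj_iff V).2 h1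
    rw [inv_eq hS hVD] at h2
    have e : V * (V * x * V) * V = x := by simp only [mul_assoc, sq hVD,
      mul_self hS hVD, mul_one]
    rw [e] at h2
    simpa only [mul_assoc] using h2
  have hxP : x * P * x = P * x * P := bP.symm
  have hz' : P * z * P = k * x * k⁻¹ := by
    rw [show k⁻¹ = h⁻¹ * P from by rw [show k = P * h from rfl, mul_inv_rev P h, inv_eq hS hPD]]
    simp only [show z = h * x * h⁻¹ from rfl, show k = P * h from rfl, mul_assoc]
  have hPgA : Commute P (g⁻¹ * A * g) := by
    rw [hgA]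
    have h1 := (Commute.conj_iff P).2 hkx
    rw [inv_eq hS hPD, ← hz', ← hxP] at h1
    have e : P * (P * z * P) * P = z := by simp only [mul_assoc, sq hPD,
      mul_self hS hPD, mul_one]
    rw [e] at h1
    have h2 := (Commute.conj_iff x).2 h1
    rw [inv_eq hS hx] at h2
    simpa [mul_assoc, sq hx, hxx] using h2
  set T := g * P * g⁻¹ with hT
  have hTD : T ∈ D := hC.2 g P (hm (by decide))
  have e1 : ∀ u, g * (g⁻¹ * u * g) * g⁻¹ = u := fun u => by group
  have hAB : A ∈ perp D B :=
    E.mem_perp (by decide) (by decide) (by decide) (by decide) (by decide) (by decide)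
  have hTB : T ∈ perp D B := by
    refine ⟨hTD, fun e => ?_, ?_⟩
    · have : g⁻¹ * B * g = P := by rw [← e, hT]; group
      rw [hgB] at this
      exact E.t_ne (by decide +kernel) this
    · have := (Commute.conj_iff g).2 ((E.commute_iff (i := 1) (j := 3) (k := 0) (l := 2)
        (by decide) (by decide)).2 (by decide) : Commute Q P)
      have h5 : Commute (g * (g⁻¹ * B * g) * g⁻¹) T := by rw [hgB]; exact this
      rwa [e1] at h5
  have hTA : T ∈ perp D A := by
    refine ⟨hTD, fun e => ?_, ?_⟩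
    · have : g⁻¹ * A * g = P := by rw [← e, hT]; group
      rw [hgA] at this
      have hzP : z = P * x * P := by
        rw [← hxP, ← this]; simp only [mul_assoc, sq hx, hxx, mul_one]
      have hkk : k * x * k⁻¹ = x := by
        rw [← hz', hzP]
        simp only [mul_assoc, sq hPD, mul_self hS hPD,
          mul_one]
      rw [hkperm, mul_inv_rev, inv_eq hS hVD,
        inv_eq hS hUD] at hkk
      have h3 : U * x * U = V * x * V := by
        conv_rhs => rw [← hkk]
        simp only [mul_assoc, sq hVD, mul_self hS hVD,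
          mul_one]
      rw [bU, bV] at h3
      exact E.t_ne (by decide +kernel) (mul_left_cancel (mul_right_cancel h3))
    · have := (Commute.conj_iff g).2 hPgA
      rw [e1] at this
      exact this.symm
  exact ⟨B, hm (by decide), A, hAB, T, hTB, hTA⟩

end Cfsg.Agent.Lib.FischerThm.B
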