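import Cfsg.Agent.Lib.FischerThm.B.Pair

/-!
Node B of Fischer's theorem: with a pair the group is the symmetric group of degree five.
-/

set_option autoImplicit false

open Cfsg

namespace Cfsg.Agent.Lib.FischerThm.B

open Cfsg.Agent.Lib.ThreeTranspositions
open Cfsg.Agent.Lib.FischerMTypes.Primitive (perp)

universe u

variable {G : Type u} [Group G] {D : Set G}

/-- no three members commute pairwise -/
def TriangleFree (D : Set G) : Prop :=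
  ∀ p ∈ D, ∀ q ∈ perp D p, ∀ r ∈ perp D p, r ∉ perp D q

/-- The edges commuting with `x` are those avoiding the two points `l` and `m`. -/
def HasType (F : Frame D) (x : G) (l m : Fin 5) : Prop :=
  l ≠ m ∧ ∀ i j : Fin 5, i ≠ j → (Commute x (F.t i j) ↔ i ≠ l ∧ i ≠ m ∧ j ≠ l ∧ j ≠ m)

theorem no_edge : ∀ p q r a b : Fin 5, p ≠ q → p ≠ r → q ≠ r → a ≠ b →
    (Frame.Apart a b p q ∨ Frame.Apart a b p r ∨ Frame.Apart a b q r) := by
  decide +kernel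

set_option synthInstance.maxSize 4000 in
theorem two_edges : ∀ a b c i j : Fin 5, a ≠ b → a ≠ c → b ≠ c → i ≠ j →
    (i = a ∨ i = b ∨ j = a ∨ j = b) → (i = a ∨ i = c ∨ j = a ∨ j = c) →
    (i = b ∨ i = c ∨ j = b ∨ j = c) → (i = a ∨ i = b ∨ i = c) ∧ (j = a ∨ j = b ∨ j = c) := by
  decide +kernel

theorem co_triangle : ∀ a b c : Fin 5, a ≠ b → a ≠ c → b ≠ c → ∃ l m : Fin 5, l ≠ m ∧
    ∀ i : Fin 5, (i = a ∨ i = b ∨ i = c) ↔ (i ≠ l ∧ i ≠ m) := by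
  decide +kernel

theorem exists_type (hC : IsClosedSet D) (hT : TriangleFree D) (F : Frame D) {x : G} (hx : x ∈ D)
    (hout : ∀ i j : Fin 5, i ≠ j → x ≠ F.t i j) : ∃ l m, HasType F x l m := by
  have hmeet : ∀ i j k l : Fin 5, i ≠ j → k ≠ l → Commute x (F.t i j) → Commute x (F.t k l) →
      (k = i ∨ k = j ∨ l = i ∨ l = j) := by
    intro i j k l hij hkl h1 h2
    by_contra h
    simp only [not_or] at h
    obtain ⟨n1, n2, n3, n4⟩ := h
    exact hT x hx _ ⟨F.mem i j hij, (hout i j hij).symm, h1⟩ _ ⟨F.mem k l hkl, (hout k l hkl).symm, h2⟩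
      (F.mem_perp hij hkl (Ne.symm n1) (Ne.symm n3) (Ne.symm n2) (Ne.symm n4))
  have hex : ∀ m : Fin 5, ∃ i j : Fin 5, i ≠ j ∧ i ≠ m ∧ j ≠ m ∧ Commute x (F.t i j) := by
    intro m
    by_contra h
    simp only [not_exists, not_and] at h
    obtain ⟨p, hp, q, hq, r, hr, hqr⟩ := exists_triangle hC F hx (m := m) h
    exact hT p hp q hq r hr hqr
  obtain ⟨a, b, hab, -, -, h1⟩ := hex 0
  obtain ⟨i, j, hij, hia, hja, h2⟩ := hex a
  have key : ∀ {b c : Fin 5}, b ≠ c → b ≠ a → c ≠ a → Commute x (F.t a b) → Commute x (F.t b c) →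
      ∃ l m, HasType F x l m := by
    intro b c hbc hba hca g1 g2
    have g3 := F.commute_triangle hba.symm hca.symm hbc g1 g2
    obtain ⟨l, m, hlm, hiff⟩ := co_triangle a b c hba.symm hca.symm hbc
    refine ⟨l, m, hlm, fun i j hij => ⟨fun h => ?_, fun ⟨e1, e2, e3, e4⟩ => ?_⟩⟩
    · obtain ⟨u, v⟩ := two_edges a b c i j hba.symm hca.symm hbc hij
        (hmeet a b i j hba.symm hij g1 h) (hmeet a c i j hca.symm hij g3 h)
        (hmeet b c i j hbc hij g2 h)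
      exact ⟨((hiff i).1 u).1, ((hiff i).1 u).2, ((hiff j).1 v).1, ((hiff j).1 v).2⟩
    · rcases (hiff i).2 ⟨e1, e2⟩ with rfl | rfl | rfl <;>
        rcases (hiff j).2 ⟨e3, e4⟩ with rfl | rfl | rfl <;>
        first
          | exact absurd rfl hij
          | assumption
          | (rw [F.t_comm]; assumption)
  rcases hmeet a b i j hab hij h1 h2 with rfl | rfl | rfl | rfl
  · exact absurd rfl hia
  · exact key hij hab.symm hja h1 h2
  · exact absurd rfl hja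
  · exact key hij.symm hab.symm hia h1 (by rw [F.t_comm]; exact h2)

theorem type_not_edge {F : Frame D} {x : G} {l m : Fin 5} (h : HasType F x l m) :
    ¬ Commute x (F.t l m) := fun hc => ((h.2 l m h.1).1 hc).1 rfl

theorem exists_three : ∀ l m : Fin 5, l ≠ m → ∃ p q r : Fin 5, p ≠ q ∧ p ≠ r ∧ q ≠ r ∧
    ∀ i : Fin 5, (i = p ∨ i = q ∨ i = r) ↔ (i ≠ l ∧ i ≠ m) := by
  decide +kernel

theorem common_edge : ∀ l m l' m' : Fin 5, l ≠ m → l' ≠ m' →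
    (l = l' ∨ l = m' ∨ m = l' ∨ m = m') → ∃ i j : Fin 5, i ≠ j ∧
      (i ≠ l ∧ i ≠ m ∧ j ≠ l ∧ j ≠ m) ∧ (i ≠ l' ∧ i ≠ m' ∧ j ≠ l' ∧ j ≠ m') := by
  decide +kernel

set_option synthInstance.maxSize 4000 in
theorem inside : ∀ p q r a b : Fin 5, p ≠ q → p ≠ r → q ≠ r → a ≠ b →
    (p = a ∨ p = b ∨ q = a ∨ q = b) → (p = a ∨ p = b ∨ r = a ∨ r = b) →
    (q = a ∨ q = b ∨ r = a ∨ r = b) → (a = p ∨ a = q ∨ a = r) ∧ (b = p ∨ b = q ∨ b = r) := by
  decide +kernel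

set_option synthInstance.maxSize 4000 in
theorem fifth : ∀ l m l' m' a b : Fin 5, l ≠ m → l' ≠ m' → l ≠ l' → l ≠ m' → m ≠ l' → m ≠ m' →
    a ≠ l → a ≠ m → a ≠ l' → a ≠ m' → b ≠ l → b ≠ m → b ≠ l' → b ≠ m' → a = b := by
  decide +kernel

theorem disjoint_of_commute (hT : TriangleFree D) {F : Frame D} {x q : G} {l m l' m' : Fin 5}
    (hx : x ∈ D) (hq : q ∈ D) (hqx : q ≠ x) (hxo : ∀ i j : Fin 5, i ≠ j → x ≠ F.t i j)
    (hqo : ∀ i j : Fin 5, i ≠ j → q ≠ F.t i j) (h : HasType F x l m) (h' : HasType F q l' m')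
    (hc : Commute x q) : l ≠ l' ∧ l ≠ m' ∧ m ≠ l' ∧ m ≠ m' := by
  by_contra hn
  have hn' : l = l' ∨ l = m' ∨ m = l' ∨ m = m' := by
    by_contra g
    simp only [not_or] at g
    exact hn g
  obtain ⟨i, j, hij, g1, g2⟩ := common_edge l m l' m' h.1 h'.1 hn'
  exact hT x hx q ⟨hq, hqx, hc⟩ _ ⟨F.mem i j hij, (hxo i j hij).symm, (h.2 i j hij).2 g1⟩
    ⟨F.mem i j hij, (hqo i j hij).symm, (h'.2 i j hij).2 g2⟩

theorem commute_of_disjoint (hC : IsClosedSet D) (hT : TriangleFree D) {F : Frame D} {x q : G}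
    {l m l' m' : Fin 5} (hx : x ∈ D) (hq : q ∈ D) (h : HasType F x l m) (h' : HasType F q l' m')
    (hd : l ≠ l' ∧ l ≠ m' ∧ m ≠ l' ∧ m ≠ m') : Commute x q := by
  by_contra hnc
  obtain ⟨d1, d2, d3, d4⟩ := hd
  have hS := hC.1
  set u := x * q * x with hu
  have hu' : u = q * x * q := braid hS hx hq hnc
  have hxi : x⁻¹ = x := inv_eq hS hx
  have hqi : q⁻¹ = q := inv_eq hS hq
  have huD : u ∈ D := by have := hC.2 x q hq; rwa [hxi] at this
  -- the edges commuting with one of `x`, `q` do not commute with `u`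
  have hA : ∀ {a b : G}, a * b * a = u → a⁻¹ = a → ∀ e : G, Commute a e → Commute u e → Commute b e := by
    intro a b hab ha e hae hue
    have he : a * e * a⁻¹ = e := by rw [hae.eq, mul_inv_cancel_right]
    have : Commute (a * b * a⁻¹) (a * e * a⁻¹) := by rw [he, ha, hab]; exact hue
    exact (Commute.conj_iff a).1 this
  have hux : ∀ i j : Fin 5, i ≠ j → i ≠ l ∧ i ≠ m ∧ j ≠ l ∧ j ≠ m →
      ¬ (i ≠ l' ∧ i ≠ m' ∧ j ≠ l' ∧ j ≠ m') → ¬ Commute u (F.t i j) := fun i j hij g g' hue =>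
    g' ((h'.2 i j hij).1 (hA hu.symm hxi _ ((h.2 i j hij).2 g) hue))
  have huq : ∀ i j : Fin 5, i ≠ j → i ≠ l' ∧ i ≠ m' ∧ j ≠ l' ∧ j ≠ m' →
      ¬ (i ≠ l ∧ i ≠ m ∧ j ≠ l ∧ j ≠ m) → ¬ Commute u (F.t i j) := fun i j hij g g' hue =>
    g' ((h.2 i j hij).1 (hA hu'.symm hqi _ ((h'.2 i j hij).2 g) hue))
  obtain ⟨p, p', n, n1, n2, n3, hp⟩ := exists_three l m h.1
  obtain ⟨r, r', n', r1, r2, r3, hr⟩ := exists_three l' m' h'.1
  have ex : ∀ l m l' m' : Fin 5, l ≠ l' → l ≠ m' → m ≠ l' → m ≠ m' → l ≠ m → l' ≠ m' →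
      ∀ i j : Fin 5, i ≠ j → i ≠ l ∧ i ≠ m ∧ j ≠ l ∧ j ≠ m →
      ¬ (i ≠ l' ∧ i ≠ m' ∧ j ≠ l' ∧ j ≠ m') := by
    decide +kernel
  have t1 : ∀ i j : Fin 5, i ≠ j → (i = p ∨ i = p' ∨ i = n) → (j = p ∨ j = p' ∨ j = n) →
      ¬ Commute u (F.t i j) := fun i j hij gi gj =>
    hux i j hij ⟨((hp i).1 gi).1, ((hp i).1 gi).2, ((hp j).1 gj).1, ((hp j).1 gj).2⟩
      (ex l m l' m' d1 d2 d3 d4 h.1 h'.1 i j hij
        ⟨((hp i).1 gi).1, ((hp i).1 gi).2, ((hp j).1 gj).1, ((hp j).1 gj).2⟩)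
  have t2 : ∀ i j : Fin 5, i ≠ j → (i = r ∨ i = r' ∨ i = n') → (j = r ∨ j = r' ∨ j = n') →
      ¬ Commute u (F.t i j) := fun i j hij gi gj =>
    huq i j hij ⟨((hr i).1 gi).1, ((hr i).1 gi).2, ((hr j).1 gj).1, ((hr j).1 gj).2⟩
      (ex l' m' l m d1.symm d3.symm d2.symm d4.symm h'.1 h.1 i j hij
        ⟨((hr i).1 gi).1, ((hr i).1 gi).2, ((hr j).1 gj).1, ((hr j).1 gj).2⟩)
  have hout : ∀ i j : Fin 5, i ≠ j → u ≠ F.t i j := by
    intro i j hij e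
    rcases no_edge p p' n i j n1 n2 n3 hij with g | g | g
    · exact t1 p p' n1 (by simp) (by simp) (e ▸ (F.commute_iff hij n1).2 g)
    · exact t1 p n n2 (by simp) (by simp) (e ▸ (F.commute_iff hij n2).2 g)
    · exact t1 p' n n3 (by simp) (by simp) (e ▸ (F.commute_iff hij n3).2 g)
  obtain ⟨a, b, hab⟩ := exists_type hC hT F huD hout
  have hedge : ∀ i j : Fin 5, i ≠ j → ¬ Commute u (F.t i j) → (i = a ∨ i = b ∨ j = a ∨ j = b) := by
    intro i j hij hn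
    by_contra g
    simp only [not_or] at g
    exact hn ((hab.2 i j hij).2 g)
  obtain ⟨ha, hb⟩ := inside p p' n a b n1 n2 n3 hab.1 (hedge p p' n1 (t1 _ _ n1 (by simp) (by simp)))
    (hedge p n n2 (t1 _ _ n2 (by simp) (by simp))) (hedge p' n n3 (t1 _ _ n3 (by simp) (by simp)))
  obtain ⟨ha', hb'⟩ := inside r r' n' a b r1 r2 r3 hab.1 (hedge r r' r1 (t2 _ _ r1 (by simp) (by simp)))
    (hedge r n' r2 (t2 _ _ r2 (by simp) (by simp))) (hedge r' n' r3 (t2 _ _ r3 (by simp) (by simp)))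
  exact hab.1 (fifth l m l' m' a b h.1 h'.1 d1 d2 d3 d4 ((hp a).1 ha).1 ((hp a).1 ha).2
    ((hr a).1 ha').1 ((hr a).1 ha').2 ((hp b).1 hb).1 ((hp b).1 hb).2 ((hr b).1 hb').1 ((hr b).1 hb').2)

theorem apart_type : ∀ l m i j : Fin 5, l ≠ m → i ≠ j →
    ((¬ ((i = l ∧ j = m) ∨ (i = m ∧ j = l)) ∧ Frame.Apart l m i j) ↔ (i ≠ l ∧ i ≠ m ∧ j ≠ l ∧ j ≠ m)) := by
  decide +kernel

/-- All members lie in the frame. -/
theorem mem_frame [Finite G] (hP : Prim D) (hT : TriangleFree D) (F : Frame D) {x : G} (hx : x ∈ D) :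
    ∃ i j : Fin 5, i ≠ j ∧ x = F.t i j := by
  by_contra hn
  have hxo : ∀ i j : Fin 5, i ≠ j → x ≠ F.t i j := fun i j h e => hn ⟨i, j, h, e⟩
  have hC := closedSet hP
  obtain ⟨l, m, h⟩ := exists_type hC hT F hx hxo
  refine hxo l m h.1 (wSet_trivial hP (F.mem l m h.1) (mem_wSet_iff.2 ⟨hx, fun y hy => ?_⟩))
  by_cases hyT : ∃ i j : Fin 5, i ≠ j ∧ y = F.t i j
  · obtain ⟨i, j, hij, rfl⟩ := hyT
    rw [and_iff_right (hxo i j hij).symm, h.2 i j hij, ← apart_type l m i j h.1 hij,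
      F.commute_iff h.1 hij]
    refine and_congr_left fun _ => not_congr ⟨fun e => ?_, ?_⟩
    · have key : ∀ i j l m : Fin 5, i ≠ j → l ≠ m → Equiv.swap i j = Equiv.swap l m →
          (i = l ∧ j = m) ∨ (i = m ∧ j = l) := by decide +kernel
      exact key i j l m hij h.1 (F.inj e)
    · rintro (⟨rfl, rfl⟩ | ⟨rfl, rfl⟩)
      · rfl
      · exact F.t_comm _ _
  have hyo : ∀ i j : Fin 5, i ≠ j → y ≠ F.t i j := fun i j hh e => hyT ⟨i, j, hh, e⟩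
  obtain ⟨l', m', h'⟩ := exists_type hC hT F hy hyo
  rw [and_iff_right (hyo l m h.1)]
  constructor
  · intro hc
    obtain ⟨g1, g2, g3, g4⟩ := (h'.2 l m h.1).1 hc.symm
    refine ⟨?_, commute_of_disjoint hC hT hx hy h h' ⟨g1, g2, g3, g4⟩⟩
    rintro rfl
    exact type_not_edge h hc.symm
  · rintro ⟨hne, hc⟩
    obtain ⟨d1, d2, d3, d4⟩ := disjoint_of_commute hT hx hy hne hxo hyo h h' hc
    exact ((h'.2 l m h.1).2 ⟨d1, d2, d3, d4⟩).symm

/-- A non-central local 3-core gives the symmetric group of degree five. -/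
theorem nodeB : NodeB.{u} := by
  intro G _ _ D hP d hd h3
  obtain ⟨a, b, hp⟩ := exists_pair hP h3
  have hT : TriangleFree D := triangle_free hP hd hp
  obtain ⟨F, -, -, -⟩ := exists_good hP hd hp
  have hsub : ∀ x ∈ D, ∃ i j : Fin 5, i ≠ j ∧ x = F.t i j := fun x hx => mem_frame hP hT F hx
  have hsurj : Function.Surjective F.hom := by
    rw [← MonoidHom.range_eq_top, eq_top_iff, ← hP.hD.2.2, Subgroup.closure_le]
    intro x hx
    obtain ⟨i, j, -, rfl⟩ := hsub x hx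
    exact ⟨_, rfl⟩
  refine ⟨(MulEquiv.ofBijective F.hom ⟨F.inj, hsurj⟩).symm, ?_⟩
  ext σ
  constructor
  · rintro ⟨x, hx, rfl⟩
    obtain ⟨i, j, hij, rfl⟩ := hsub x hx
    exact ⟨i, j, hij, (MulEquiv.ofBijective F.hom ⟨F.inj, hsurj⟩).symm_apply_apply _⟩
  · rintro ⟨i, j, hij, rfl⟩
    exact ⟨F.t i j, F.mem i j hij, (MulEquiv.ofBijective F.hom ⟨F.inj, hsurj⟩).symm_apply_apply _⟩

end Cfsg.Agent.Lib.FischerThm.B
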