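import Cfsg.Agent.Lib.FischerThm.B.Frame
import Cfsg.Agent.Lib.ThreeTranspositions.Width
import Cfsg.Agent.Lib.ThreeTranspositions.QuatCentre

/-!
Two partners of a member with the same partners among its partners: then no three members commute
pairwise and there is a copy of the symmetric group of degree five.
-/

set_option autoImplicit false

open Cfsg

namespace Cfsg.Agent.Lib.FischerThm.B

open Cfsg.Agent.Lib.ThreeTranspositions
open Cfsg.Agent.Lib.FischerMTypes.Primitive (perp perp₂)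

universe u

variable {G : Type u} [Group G] {D : Set G}

theorem closedSet (hP : Prim D) : IsClosedSet D := isClosedSet_of_group hP.hD

/-- Two non-commuting partners of `d` with the same partners among the partners of `d`. -/
structure Pair (D : Set G) (d a b : G) : Prop where
  left : a ∈ perp D d
  right : b ∈ perp D d
  apart : ¬ Commute a b
  same : ∀ x ∈ perp D d, x ≠ a → x ≠ b → (Commute a x ↔ Commute b x)

theorem Pair.swap {d a b : G} (h : Pair D d a b) : Pair D d b a :=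
  ⟨h.right, h.left, not_commute_symm h.apart, fun x hx h1 h2 => (h.same x hx h2 h1).symm⟩

theorem Pair.conj (hC : IsClosedSet D) {d a b : G} (h : Pair D d a b) (g : G) :
    Pair D (g * d * g⁻¹) (g * a * g⁻¹) (g * b * g⁻¹) := by
  refine ⟨perp_conj hC g h.left, perp_conj hC g h.right, fun hc => h.apart ((Commute.conj_iff g).1 hc),
    fun x hx h1 h2 => ?_⟩
  have e : x = g * (g⁻¹ * x * g) * g⁻¹ := by group
  have hx' : g⁻¹ * x * g ∈ perp D d := by
    have := perp_conj hC g⁻¹ hx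
    simpa [mul_assoc] using this
  rw [e, Commute.conj_iff, Commute.conj_iff]
  exact h.same _ hx' (fun h' => h1 (by rw [e, h'])) (fun h' => h2 (by rw [e, h']))

theorem Pair.perp₂_eq {d a b : G} (h : Pair D d a b) : perp₂ D d a = perp₂ D d b := by
  ext x
  constructor
  · intro hx
    have hb : x ≠ b := fun e => h.apart (e ▸ hx.2.2.2)
    exact ⟨hx.1, hx.2.1, hb, (h.same x hx.1 hx.2.2.1 hb).1 hx.2.2.2⟩
  · intro hx
    have ha : x ≠ a := fun e => h.apart (e ▸ hx.2.2.2).symm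
    exact ⟨hx.1, hx.2.1, ha, (h.same x hx.1 ha hx.2.2.1).2 hx.2.2.2⟩

/-- A non-central local 3-core gives a pair. -/
theorem exists_pair [Finite G] (hP : Prim D) {d : G} (h3 : ¬ LocalCentral 3 D d) :
    ∃ a b, Pair D d a b := by
  have hC := closedSet hP
  set H := Hd D d with hH
  haveI : (Cfsg.pCore 3 ↥H).Normal := inferInstance
  let D' : Set H := {x | (x : G) ∈ perp D d}
  have hS' : IsThreeTranspositionSet D' :=
    ⟨fun x hx => by rw [← Subgroup.orderOf_coe]; exact hC.1.1 _ hx.1,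
      fun x hx y hy => (hC.1.2 _ hx.1 _ hy.1).imp (fun h => Subtype.ext (by simpa using h))
        (fun h => Subtype.ext (by simpa using h))⟩
  have hfix : ∀ g ∈ H, ∀ y ∈ perp D d, g * y * g⁻¹ ∈ perp D d := by
    intro g hg y hy
    have hgd : g * d * g⁻¹ = d := by
      have : H ≤ Subgroup.centralizer ({d} : Set G) := by
        show Subgroup.closure (perp D d) ≤ _
        rw [Subgroup.closure_le]
        intro z hz
        exact Subgroup.mem_centralizer_singleton_iff.2 hz.2.2.eq.symm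
      rw [Subgroup.mem_centralizer_singleton_iff.1 (this hg), mul_inv_cancel_right]
    have := perp_conj hC g hy
    rwa [hgd] at this
  have hC' : IsClosedSet D' := ⟨hS', fun g x hx => hfix g g.2 x hx⟩
  obtain ⟨g, hg, a, ha, hne⟩ : ∃ g ∈ Cfsg.pCore 3 ↥H, ∃ a ∈ D', g * a * g⁻¹ ≠ a := by
    by_contra h
    push Not at h
    apply h3
    intro g hg
    rw [Subgroup.mem_center_iff]
    intro y
    apply Subtype.ext
    have hy : (y : G) ∈ Subgroup.closure (perp D d) := y.2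
    rw [Subgroup.coe_mul, Subgroup.coe_mul]
    generalize (y : G) = z at hy ⊢
    induction hy using Subgroup.closure_induction with
    | mem z hz =>
      have := congrArg Subtype.val (h g hg ⟨z, Subgroup.subset_closure hz⟩ hz)
      simp only [Subgroup.coe_mul, Subgroup.coe_inv] at this
      exact (mul_inv_eq_iff_eq_mul.1 this).symm
    | one => simp
    | mul u v hu hv h1 h2 =>
      calc (u * v) * (g : G) = u * (v * g) := by rw [mul_assoc]
        _ = u * (g * v) := by rw [h2]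
        _ = (u * g) * v := by rw [mul_assoc]
        _ = (g : G) * (u * v) := by rw [h1, mul_assoc]
    | inv u hu h1 =>
      exact (Commute.inv_left (show Commute u (g : G) from h1)).eq
  have hb : g * a * g⁻¹ ∈ D' := hC'.2 g a ha
  have hw : g * a * g⁻¹ ∈ wSet D' a := by
    refine mem_wSet_of_mem_pGroup hC' (Cores.pCore_isPGroup 3) ha hb ?_
    rw [show a⁻¹ * (g * a * g⁻¹) = (a⁻¹ * g * a) * g⁻¹ by group]
    refine mul_mem ?_ (inv_mem hg)
    simpa using (inferInstance : (Cfsg.pCore 3 ↥H).Normal).conj_mem g hg a⁻¹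
  set b := g * a * g⁻¹ with hbdef
  have hcc : ∀ u v : H, Commute (u : G) v ↔ Commute u v := fun u v =>
    ⟨fun h => Subtype.ext h.eq, fun h => congrArg Subtype.val h.eq⟩
  refine ⟨a, b, ha, hb, fun h => not_commute_of_mem_wSet ha hw hne ((hcc b a).1 h.symm),
    fun x hx h1 h2 => ?_⟩
  have hxH : x ∈ H := Subgroup.subset_closure hx
  have := (mem_wSet_iff.1 hw).2 ⟨x, hxH⟩ hx
  rw [← hcc, ← hcc] at this
  constructor
  · intro h
    exact (this.1 ⟨fun e => h1 (congrArg Subtype.val e), h⟩).2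
  · intro h
    exact (this.2 ⟨fun e => h2 (congrArg Subtype.val e), h⟩).2

/-- No two members have the same partners. -/
theorem wSet_trivial (hP : Prim D) {a b : G} (hb : b ∈ D) (ha : a ∈ wSet D b) : a = b := by
  have hC := closedSet hP
  have himg : ∀ g : G, (fun x => g * x * g⁻¹) '' wSet D b = wSet D (g * b * g⁻¹) := by
    intro g
    ext x
    constructor
    · rintro ⟨y, hy, rfl⟩; exact conj_mem_wSet hC g hy
    · intro hx
      refine ⟨g⁻¹ * x * g, ?_, by group⟩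
      have := conj_mem_wSet hC g⁻¹ hx
      simpa [mul_assoc] using this
  rcases hP.hprim.2.2 (wSet D b) (fun x hx => hx.1) (fun g => by
    rw [himg]
    by_cases h : Disjoint (wSet D (g * b * g⁻¹)) (wSet D b)
    · exact Or.inr h
    · obtain ⟨x, hx1, hx2⟩ := Set.not_disjoint_iff.1 h
      exact Or.inl ((wSet_eq_of_mem hx1).symm.trans (wSet_eq_of_mem hx2))) with h | h
  · exact h ha (self_mem_wSet hb)
  · exfalso
    obtain ⟨u, hu, v, hv, hne, hc⟩ := hP.hw
    have hu' : u ∈ wSet D b := by rw [h]; exact hu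
    have hv' : v ∈ wSet D b := by rw [h]; exact hv
    exact not_commute_of_mem_wSet hu (wSet_eq_of_mem hu' ▸ hv' : v ∈ wSet D u) hne hc.symm

/-- A good frame: the middle transposition gives a pair at the first. -/
def Good (F : Frame D) : Prop := Pair D (F.t 0 1) (F.t 3 4) (F.t 2 3)

theorem exists_good [Finite G] (hP : Prim D) {d a b : G} (hd : d ∈ D) (h : Pair D d a b) :
    ∃ F : Frame D, Good F ∧ F.t 0 1 = d ∧ (F.t 3 4 = a ∧ F.t 2 3 = b ∨ F.t 3 4 = b ∧ F.t 2 3 = a) := by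
  have hC := closedSet hP
  have key : ∀ {a b : G}, Pair D d a b → (∃ y ∈ perp D a, ¬ Commute b y) →
      ∃ F : Frame D, Good F ∧ F.t 0 1 = d ∧ F.t 3 4 = a ∧ F.t 2 3 = b := by
    rintro a b h ⟨y, hy, hby⟩
    have hyd : ¬ Commute d y := fun hc => by
      have hne : y ≠ d := fun e => hby (e ▸ h.right.2.2.symm)
      exact hby ((h.same y ⟨hy.1, hne, hc⟩ hy.2.1 (fun e => hby (e ▸ Commute.refl y))).1 hy.2.2)
    obtain ⟨F, e0, e1, e2, e3⟩ := exists_frame hC hd hy.1 h.right.1 h.left.1 h.right.2.2 h.left.2.2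
      hy.2.2.symm hyd (not_commute_symm hby) (not_commute_symm h.apart)
    exact ⟨F, by rw [Good, e0, e2, e3]; exact h, e0, e3, e2⟩
  by_cases h1 : ∃ y ∈ perp D a, ¬ Commute b y
  · obtain ⟨F, g1, g2, g3, g4⟩ := key h h1
    exact ⟨F, g1, g2, Or.inl ⟨g3, g4⟩⟩
  by_cases h2 : ∃ y ∈ perp D b, ¬ Commute a y
  · obtain ⟨F, g1, g2, g3, g4⟩ := key h.swap h2
    exact ⟨F, g1, g2, Or.inr ⟨g3, g4⟩⟩
  exfalso
  push Not at h1 h2
  refine h.apart (wSet_trivial hP h.right.1 ((mem_wSet_iff).2 ⟨h.left.1, fun y hy => ?_⟩) ▸ Commute.refl b)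
  constructor
  · intro hh
    exact ⟨fun e => h.apart (e ▸ hh.2).symm, h2 y ⟨hy, hh⟩⟩
  · intro hh
    exact ⟨fun e => h.apart (e ▸ hh.2), h1 y ⟨hy, hh⟩⟩

namespace Frame

variable {F : Frame D}

theorem pair_at (hC : IsClosedSet D) (hF : Good F) (σ : Equiv.Perm (Fin 5)) :
    Pair D (F.t (σ 0) (σ 1)) (F.t (σ 3) (σ 4)) (F.t (σ 2) (σ 3)) := by
  have := hF.conj hC (F.hom σ)
  rwa [F.t_conj, F.t_conj, F.t_conj] at this

theorem good_relabel (hC : IsClosedSet D) (hF : Good F) (σ : Equiv.Perm (Fin 5)) :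
    Good (F.relabel σ) := by
  rw [Good, F.relabel_t, F.relabel_t, F.relabel_t]
  exact pair_at hC hF σ

theorem exists_perm : ∀ i j k l m : Fin 5, [i, j, k, l, m].Nodup →
    ∃ σ : Equiv.Perm (Fin 5), σ 0 = i ∧ σ 1 = j ∧ σ 2 = k ∧ σ 3 = l ∧ σ 4 = m := by
  intro i j k l m h
  refine ⟨Equiv.ofBijective ![i, j, k, l, m] ((Finite.injective_iff_bijective).1 ?_), rfl, rfl, rfl, rfl, rfl⟩
  intro u v e
  simp only [List.nodup_cons, List.mem_cons, List.not_mem_nil, or_false, not_or, List.nodup_nil,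
    and_true] at h
  obtain ⟨⟨_, _, _, _⟩, ⟨_, _, _⟩, ⟨_, _⟩, _⟩ := h
  fin_cases u <;> fin_cases v <;> simp_all

theorem tri (hC : IsClosedSet D) (hF : Good F) {i j k l m : Fin 5} (h : [i, j, k, l, m].Nodup) :
    Pair D (F.t i j) (F.t l m) (F.t k l) := by
  obtain ⟨σ, rfl, rfl, rfl, rfl, rfl⟩ := exists_perm i j k l m h
  exact pair_at hC hF σ

/-- Two common partners commute with the whole copy. -/
theorem commute_hom (hC : IsClosedSet D) (hF : Good F) {z : G}
    (hz : z ∈ perp₂ D (F.t 0 1) (F.t 3 4)) (σ : Equiv.Perm (Fin 5)) : Commute z (F.hom σ) := by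
  have hne : ∀ {i j k l : Fin 5}, i ≠ j → k ≠ l → Commute z (F.t k l) → ¬ Apart i j k l → z ≠ F.t i j :=
    fun hij hkl h1 h2 e => h2 ((F.commute_iff hij hkl).1 (e ▸ h1))
  have hd : Commute z (F.t 0 1) := hz.1.2.2.symm
  have ha : Commute z (F.t 3 4) := hz.2.2.2.symm
  have hb : Commute z (F.t 2 3) :=
    ((hF.same z hz.1 (hz.2.2.1) (hne (by decide) (by decide) ha (by decide))).1 hz.2.2.2).symm
  have hp := tri hC hF (i := 3) (j := 4) (k := 2) (l := 1) (m := 0) (by decide)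
  rw [F.t_comm 1 0, F.t_comm 2 1] at hp
  have hy : Commute z (F.t 1 2) :=
    ((hp.same z hz.2 hz.1.2.1 (hne (by decide) (by decide) hd (by decide))).1 hd.symm).symm
  have hmem : σ ∈ Submonoid.closure (Set.range fun i : Fin 4 => Equiv.swap i.castSucc i.succ) := by
    rw [Equiv.Perm.mclosure_swap_castSucc_succ]; trivial
  induction hmem using Submonoid.closure_induction with
  | mem x hx =>
    obtain ⟨i, rfl⟩ := hx
    fin_cases i
    exacts [hd, hy, hb, ha]
  | one => rw [map_one]; exact Commute.one_right z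
  | mul u v _ _ hu hv => rw [map_mul]; exact hu.mul_right hv

theorem perp₂_sub (hC : IsClosedSet D) (hF : Good F) {i j k l : Fin 5} (hij : i ≠ j) (hkl : k ≠ l)
    {z : G} (hz : z ∈ perp₂ D (F.t 0 1) (F.t 3 4)) :
    z ∈ perp₂ D (F.t i j) (F.t k l) := by
  have key : ∀ i j : Fin 5, i ≠ j → z ∈ perp D (F.t i j) := by
    intro i j hij
    refine ⟨hz.1.1, fun e => ?_, (commute_hom hC hF hz _).symm⟩
    have hex : ∀ i j : Fin 5, i ≠ j → ∃ k l : Fin 5, k ≠ l ∧ ¬ Apart i j k l := by decide +kernel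
    obtain ⟨k, l, hkl, hn⟩ := hex i j hij
    exact hn ((F.commute_iff hij hkl).1 (e ▸ commute_hom hC hF hz _))
  exact ⟨key i j hij, key k l hkl⟩

theorem perp₂_edges (hC : IsClosedSet D) (hF : Good F) {i j k l : Fin 5} (h : [i, j, k, l].Nodup) :
    perp₂ D (F.t i j) (F.t k l) = perp₂ D (F.t 0 1) (F.t 3 4) := by
  have h5 : ∀ i j k l : Fin 5, [i, j, k, l].Nodup → ∃ m : Fin 5, [i, j, m, k, l].Nodup ∧ i ≠ j ∧ k ≠ l := by
    decide +kernel
  obtain ⟨m, hm, hij, hkl⟩ := h5 i j k l h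
  refine Set.Subset.antisymm (fun z hz => ?_) fun z hz => perp₂_sub hC hF hij hkl hz
  obtain ⟨σ, rfl, rfl, rfl, rfl, rfl⟩ := exists_perm i j m k l hm
  rw [← F.relabel_t, ← F.relabel_t] at hz
  have := perp₂_sub hC (good_relabel hC hF σ) (i := σ⁻¹ 0) (j := σ⁻¹ 1) (k := σ⁻¹ 3) (l := σ⁻¹ 4)
    (σ⁻¹.injective.ne (by decide)) (σ⁻¹.injective.ne (by decide)) hz
  simpa [F.relabel_t] using this

/-- Partners of an end that leave the other end form pairs with it. -/
theorem pair_of_partner (hC : IsClosedSet D) (hF : Good F) {x : G} (hx : x ∈ perp D (F.t 3 4))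
    (hxd : ¬ Commute x (F.t 0 1)) :
    Pair D (F.t 3 4) (F.t 0 1) x ∧ ∀ z ∈ perp₂ D (F.t 0 1) (F.t 3 4), Commute x z := by
  have hxa : Commute x (F.t 3 4) := hx.2.2.symm
  have hm : ∀ {i j : Fin 5}, i ≠ j → F.t i j ∈ D := fun h => F.mem _ _ h
  have hcomm : ∀ {i j k l : Fin 5}, i ≠ j → k ≠ l → Apart i j k l → Commute (F.t i j) (F.t k l) :=
    fun h1 h2 h => (F.commute_iff h1 h2).2 h
  have hnc : ∀ {i j k l : Fin 5}, i ≠ j → k ≠ l → ¬ Apart i j k l → ¬ Commute (F.t i j) (F.t k l) :=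
    fun h1 h2 h hc => h ((F.commute_iff h1 h2).1 hc)
  have frame : ∀ {p q : G} (F' : Frame D), F'.t 0 1 = p → F'.t 3 4 = F.t 3 4 → F'.t 1 2 = x →
      F'.t 2 3 = q → Good F' → perp₂ D p (F.t 3 4) = perp₂ D (F.t 0 1) (F.t 3 4) →
      Pair D (F.t 3 4) p x ∧ ∀ z ∈ perp₂ D (F.t 0 1) (F.t 3 4), Commute x z := by
    intro p q F' e0 e3 e1 _ hG he
    have hp := tri hC hG (i := 3) (j := 4) (k := 2) (l := 1) (m := 0) (by decide)
    rw [F'.t_comm 1 0, F'.t_comm 2 1, e0, e1, e3] at hp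
    refine ⟨hp, fun z hz => ?_⟩
    rw [← he, ← e0, ← e3] at hz
    rw [← e1]
    exact (commute_hom hC hG hz _).symm
  by_cases hxb : Commute x (F.t 2 3)
  swap
  · obtain ⟨F', e0, e1, e2, e3⟩ := exists_frame hC (hm (by decide : (0 : Fin 5) ≠ 1)) hx.1
      (hm (by decide : (2 : Fin 5) ≠ 3)) (hm (by decide : (3 : Fin 5) ≠ 4))
      (hcomm (by decide) (by decide) (by decide)) (hcomm (by decide) (by decide) (by decide)) hxa
      (not_commute_symm hxd) hxb (hnc (by decide) (by decide) (by decide))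
    exact frame F' e0 e3 e1 e2 (by rw [Good, e0, e2, e3]; exact hF) rfl
  have hxne : ∀ {i j : Fin 5}, i ≠ j → ¬ Apart i j 2 3 → x ≠ F.t i j := fun h h' e =>
    h' ((F.commute_iff h (by decide)).1 (e ▸ hxb))
  have hx12 : ¬ Commute x (F.t 1 2) := fun hc => hxd (by
    have hp := tri hC hF (i := 3) (j := 4) (k := 2) (l := 1) (m := 0) (by decide)
    rw [F.t_comm 1 0, F.t_comm 2 1] at hp
    exact ((hp.same x hx (fun e => hxd (e ▸ Commute.refl _))
      (hxne (by decide) (by decide))).2 hc.symm).symm)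
  have hx02 : ¬ Commute x (F.t 0 2) := fun hc => by
    have hp := tri hC hF (i := 3) (j := 4) (k := 2) (l := 0) (m := 1) (by decide)
    rw [F.t_comm 2 0] at hp
    exact hxd ((hp.same x hx (fun e => hxd (e ▸ Commute.refl _))
      (hxne (by decide) (by decide))).2 hc.symm).symm
  have hx13 : ¬ Commute x (F.t 1 3) := fun hc => hx12 (by
    have := F.commute_triangle (i := 1) (j := 3) (k := 2) (by decide) (by decide) (by decide) hc
      (F.t_comm 2 3 ▸ hxb)
    exact this)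
  have hp' := tri hC hF (i := 0) (j := 2) (k := 1) (l := 3) (m := 4) (by decide)
  obtain ⟨F', e0, e1, e2, e3⟩ := exists_frame hC (hm (by decide : (0 : Fin 5) ≠ 2)) hx.1
    (hm (by decide : (1 : Fin 5) ≠ 3)) (hm (by decide : (3 : Fin 5) ≠ 4))
    (hcomm (by decide) (by decide) (by decide)) (hcomm (by decide) (by decide) (by decide)) hxa
    (not_commute_symm hx02) hx13 (hnc (by decide) (by decide) (by decide))
  obtain ⟨hpx, hz⟩ := frame F' e0 e3 e1 e2 (by rw [Good, e0, e2, e3]; exact hp')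
    (perp₂_edges hC hF (by decide))
  refine ⟨?_, hz⟩
  -- replace the first member of the pair
  have hp12 := tri hC hF (i := 3) (j := 4) (k := 2) (l := 0) (m := 1) (by decide)
  rw [F.t_comm 2 0] at hp12
  refine ⟨hp12.left, hpx.right, fun hc => hxd hc.symm, fun w hw h1 h2 => ?_⟩
  by_cases h3 : w = F.t 0 2
  · subst h3
    exact iff_of_false (hnc (by decide) (by decide) (by decide)) hx02
  · exact (hp12.same w hw h1 h3).trans (hpx.same w hw h3 h2)

end Frame

/-- `p` and `q` lie in a pair at `p`. -/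
def Edge (D : Set G) (p q : G) : Prop := ∃ r, Pair D p q r

theorem Pair.edge_symm [Finite G] (hP : Prim D) {p q r : G} (hp : p ∈ D) (h : Pair D p q r) :
    ∃ s, Pair D q p s := by
  obtain ⟨F, hF, e0, (⟨e3, -⟩ | ⟨-, e2⟩)⟩ := exists_good hP hp h
  · have := Frame.tri (closedSet hP) hF (i := 3) (j := 4) (k := 2) (l := 1) (m := 0) (by decide)
    rw [F.t_comm 1 0, e0, e3] at this
    exact ⟨_, this⟩
  · have := Frame.tri (closedSet hP) hF (i := 2) (j := 3) (k := 4) (l := 1) (m := 0) (by decide)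
    rw [F.t_comm 1 0, e0, e2] at this
    exact ⟨_, this⟩

/-- Common partners do not depend on the pair. -/
theorem perp₂_of_edge [Finite G] (hP : Prim D) {p : G} (hp : p ∈ D) {q q' : G} (h : Edge D p q)
    (h' : Edge D p q') : perp₂ D p q = perp₂ D p q' := by
  have hC := closedSet hP
  obtain ⟨r, h⟩ := h
  obtain ⟨r', h'⟩ := h'
  obtain ⟨F, hF, rfl, hq⟩ := exists_good hP hp h
  have e : perp₂ D (F.t 0 1) q = perp₂ D (F.t 0 1) (F.t 3 4) := by
    rcases hq with ⟨h3, -⟩ | ⟨h3, -⟩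
    · rw [h3]
    · rw [h3]; exact h.perp₂_eq
  rw [e]
  -- partners outside the common ones
  have hout : ∀ x ∈ perp D (F.t 0 1), ¬ Commute x (F.t 3 4) →
      Pair D (F.t 0 1) (F.t 3 4) x ∧ ∀ z ∈ perp₂ D (F.t 0 1) (F.t 3 4), Commute x z := by
    intro x hx hxa
    obtain ⟨σ, hσ⟩ : ∃ σ : Equiv.Perm (Fin 5), σ 0 = 3 ∧ σ 1 = 4 ∧ σ 2 = 2 ∧ σ 3 = 0 ∧ σ 4 = 1 :=
      Frame.exists_perm 3 4 2 0 1 (by decide)
    have h01 : (F.relabel σ).t 0 1 = F.t 3 4 := by rw [F.relabel_t, hσ.1, hσ.2.1]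
    have h34 : (F.relabel σ).t 3 4 = F.t 0 1 := by rw [F.relabel_t, hσ.2.2.2.1, hσ.2.2.2.2]
    have := Frame.pair_of_partner hC (Frame.good_relabel hC hF σ) (x := x) (by rw [h34]; exact hx)
      (by rw [h01]; exact hxa)
    rw [h01, h34] at this
    exact ⟨this.1, fun z hz => this.2 z ⟨hz.2, hz.1⟩⟩
  by_cases hq'a : q' = F.t 3 4
  · rw [hq'a]
  by_cases hc : Commute q' (F.t 3 4)
  swap
  · exact (hout q' h'.left hc).1.perp₂_eq
  exfalso
  have hqZ : q' ∈ perp₂ D (F.t 0 1) (F.t 3 4) := ⟨h'.left, h'.left.1, hq'a, hc.symm⟩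
  have hrZ : r' ∈ perp₂ D (F.t 0 1) (F.t 3 4) := by
    by_cases hr : Commute r' (F.t 3 4)
    · exact ⟨h'.right, h'.right.1, fun e => h'.apart (e ▸ hc), hr.symm⟩
    · exact (h'.apart ((hout r' h'.right hr).2 q' hqZ).symm).elim
  obtain ⟨F', hF', e0, hq1⟩ := exists_good hP (F.mem 0 1 (by decide)) h'
  have hq1Z : F'.t 3 4 ∈ perp₂ D (F.t 0 1) (F.t 3 4) := by
    rcases hq1 with ⟨h3, -⟩ | ⟨h3, -⟩ <;> rw [h3] <;> assumption
  have hy : F.t 1 2 ∈ perp D (F'.t 3 4) := perp_symm (F.mem 1 2 (by decide))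
    (Frame.perp₂_sub hC hF (k := 3) (l := 4) (by decide) (by decide) hq1Z).1
  have hyd : ¬ Commute (F.t 1 2) (F'.t 0 1) := by
    rw [e0]; exact fun hc => absurd ((F.commute_iff (by decide) (by decide)).1 hc) (by decide)
  have hb : F.t 2 3 ∈ perp₂ D (F'.t 0 1) (F'.t 3 4) := by
    rw [e0]
    exact ⟨F.mem_perp (by decide) (by decide) (by decide) (by decide) (by decide) (by decide),
      perp_symm (F.mem 2 3 (by decide))
        (Frame.perp₂_sub hC hF (k := 3) (l := 4) (by decide) (by decide) hq1Z).1⟩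
  exact absurd ((F.commute_iff (by decide) (by decide)).1
    ((Frame.pair_of_partner hC hF' hy hyd).2 _ hb)) (by decide)

/-- A pair has no common partners. -/
theorem perp₂_empty [Finite G] (hP : Prim D) {d a b : G} (hd : d ∈ D) (h : Pair D d a b) :
    perp₂ D d a = ∅ := by
  have hC := closedSet hP
  set Z := perp₂ D d a with hZ
  let B : Set G := {p | p ∈ D ∧ ∃ q, Edge D p q ∧ perp₂ D p q = Z}
  have himg2 : ∀ g u v : G, (fun x => g * x * g⁻¹) '' perp₂ D u v =
      perp₂ D (g * u * g⁻¹) (g * v * g⁻¹) := by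
    intro g u v
    ext x
    constructor
    · rintro ⟨y, hy, rfl⟩; exact ⟨perp_conj hC g hy.1, perp_conj hC g hy.2⟩
    · intro hx
      refine ⟨g⁻¹ * x * g, ⟨?_, ?_⟩, by group⟩
      · have := perp_conj hC g⁻¹ hx.1; simpa [mul_assoc] using this
      · have := perp_conj hC g⁻¹ hx.2; simpa [mul_assoc] using this
  have hblock : ∀ g : G, (fun x => g * x * g⁻¹) '' B = B ∨ Disjoint ((fun x => g * x * g⁻¹) '' B) B := by
    intro g
    by_cases hdis : Disjoint ((fun x => g * x * g⁻¹) '' B) B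
    · exact Or.inr hdis
    left
    obtain ⟨p, ⟨p₀, ⟨hp₀, q₀, ⟨r₀, hr₀⟩, e₀⟩, rfl⟩, hp, q, hq, e⟩ := Set.not_disjoint_iff.1 hdis
    have hfix : (fun x => g * x * g⁻¹) '' Z = Z := by
      conv_lhs => rw [← e₀, himg2, perp₂_of_edge hP hp ⟨_, hr₀.conj hC g⟩ hq, e]
    ext x
    constructor
    · rintro ⟨y, ⟨hy, s, ⟨w, hw⟩, es⟩, rfl⟩
      exact ⟨hC.2 g y hy, _, ⟨_, hw.conj hC g⟩, by rw [← himg2, es, hfix]⟩
    · rintro ⟨hx, s, ⟨w, hw⟩, es⟩
      refine ⟨g⁻¹ * x * g, ⟨by simpa using hC.2 g⁻¹ x hx, _, ⟨_, by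
        have := hw.conj hC g⁻¹; simpa [mul_assoc] using this⟩, ?_⟩, by group⟩
      apply Set.image_injective.2 (fun u v huv => mul_left_cancel (mul_right_cancel huv) :
        Function.Injective fun x => g * x * g⁻¹)
      rw [himg2, hfix, ← es]
      congr 1 <;> group
  have hdB : d ∈ B := ⟨hd, a, ⟨b, h⟩, rfl⟩
  obtain ⟨s, hs⟩ := h.edge_symm hP hd
  have haB : a ∈ B := ⟨h.left.1, d, ⟨s, hs⟩, by rw [hZ]; exact Set.inter_comm _ _⟩
  rcases hP.hprim.2.2 B (fun x hx => hx.1) hblock with hB | hB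
  · exact (h.left.2.1 (hB haB hdB)).elim
  refine Set.eq_empty_iff_forall_notMem.2 fun z hz => ?_
  obtain ⟨-, q, -, e⟩ : z ∈ B := hB.symm ▸ hz.1.1
  exact (e ▸ hz : z ∈ perp₂ D z q).1.2.1 rfl

/-- With a pair, no three members commute pairwise. -/
theorem triangle_free [Finite G] (hP : Prim D) {d a b : G} (hd : d ∈ D) (h : Pair D d a b) :
    ∀ p ∈ D, ∀ q ∈ perp D p, ∀ r ∈ perp D p, r ∉ perp D q := by
  have hC := closedSet hP
  obtain ⟨F, hF, rfl, -⟩ := exists_good hP hd h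
  have hZ := perp₂_empty hP hd hF
  have hout : ∀ x ∈ perp D (F.t 0 1), x ≠ F.t 3 4 → ¬ Commute x (F.t 3 4) := fun x hx hne hc =>
    Set.eq_empty_iff_forall_notMem.1 hZ x ⟨hx, hx.1, hne, hc.symm⟩
  have hbase : ∀ x ∈ perp D (F.t 0 1), ∀ x' ∈ perp D (F.t 0 1), x' ∉ perp D x := by
    intro x hx x' hx' hxx
    by_cases h1 : x = F.t 3 4
    · subst h1; exact hout x' hx' hxx.2.1 hxx.2.2.symm
    by_cases h2 : x' = F.t 3 4
    · subst h2; exact hout x hx h1 hxx.2.2
    have hσ : ∃ σ : Equiv.Perm (Fin 5), σ 0 = 3 ∧ σ 1 = 4 ∧ σ 2 = 2 ∧ σ 3 = 0 ∧ σ 4 = 1 :=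
      Frame.exists_perm 3 4 2 0 1 (by decide)
    obtain ⟨σ, hσ⟩ := hσ
    have h01 : (F.relabel σ).t 0 1 = F.t 3 4 := by rw [F.relabel_t, hσ.1, hσ.2.1]
    have h34 : (F.relabel σ).t 3 4 = F.t 0 1 := by rw [F.relabel_t, hσ.2.2.2.1, hσ.2.2.2.2]
    have hp := (Frame.pair_of_partner hC (Frame.good_relabel hC hF σ) (x := x) (by rw [h34]; exact hx)
      (by rw [h01]; exact hout x hx h1)).1
    rw [h01, h34] at hp
    exact hout x' hx' h2 ((hp.same x' hx' h2 hxx.2.1).2 hxx.2.2).symm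
  intro p hp q hq r hr hqr
  obtain ⟨g, hg⟩ := hP.hprim.1 p hp _ (F.mem 0 1 (by decide))
  have hg' : g * p * g⁻¹ = F.t 0 1 := hg
  exact hbase _ (hg' ▸ perp_conj hC g hq) _ (hg' ▸ perp_conj hC g hr) (perp_conj hC g hqr)

end Cfsg.Agent.Lib.FischerThm.B
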